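import Cfsg.Agent.ClassTech.U34Centralizer.Structure

/-!
Two groups with the same generators and relations are isomorphic.
-/

set_option autoImplicit false

namespace Cfsg.Agent.ClassTech.U34Centralizer

open Subgroup
open scoped commutatorElement Pointwise

theorem card_sup_le_mul_of_le_normalizer {G : Type*} [Group G] (A B : Subgroup G)
    (h : B ≤ normalizer (A : Set G)) :
    Nat.card (A ⊔ B : Subgroup G) ≤ Nat.card A * Nat.card B := by
  have : Nat.card ((A ⊔ B : Subgroup G) : Set G) ≤ Nat.card (A : Set G) * Nat.card (B : Set G) := by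
    rw [coe_mul_of_right_le_normalizer_left A B h]
    exact Set.natCard_mul_le
  exact this

theorem nonempty_mulEquiv {G G' : Type*} [Group G] [Finite G] [Group G'] [Finite G']
    (hG : Nat.card G = 320) (hG' : Nat.card G' = 320) (d : Data G) (d' : Data G') :
    Nonempty (G ≃* G') := by
  classical
  set g1 : G × G' := (⁅d.x, d.t * d.x * d.t⁻¹⁆, ⁅d'.x, d'.t * d'.x * d'.t⁻¹⁆) with hg1
  set g2 : G × G' := (⁅d.x, d.t ^ 2 * d.x * (d.t ^ 2)⁻¹⁆, ⁅d'.x, d'.t ^ 2 * d'.x * (d'.t ^ 2)⁻¹⁆) with hg2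
  set Γ := zpowers g1 ⊔ zpowers g2 with hΓ
  have hcen : Γ ≤ center (G × G') := sup_le
    (zpowers_le.mpr (mem_center_iff.mpr fun p => Prod.ext (mem_center_iff.mp d.hc1z p.1)
      (mem_center_iff.mp d'.hc1z p.2)))
    (zpowers_le.mpr (mem_center_iff.mpr fun p => Prod.ext (mem_center_iff.mp d.hc2z p.1)
      (mem_center_iff.mp d'.hc2z p.2)))
  haveI : Γ.Normal := ⟨fun c hc g => by rwa [mem_center_iff.mp (hcen hc) g, mul_inv_cancel_right]⟩
  have hΓcard : Nat.card Γ ≤ 4 := by
    have h1 : Nat.card (zpowers g1) ≤ 2 := by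
      rw [Nat.card_zpowers]
      exact Nat.le_of_dvd two_pos (orderOf_dvd_of_pow_eq_one (by
        rw [pow_two]; exact Prod.ext d.hc1 d'.hc1))
    have h2 : Nat.card (zpowers g2) ≤ 2 := by
      rw [Nat.card_zpowers]
      exact Nat.le_of_dvd two_pos (orderOf_dvd_of_pow_eq_one (by
        rw [pow_two]; exact Prod.ext d.hc2 d'.hc2))
    refine (card_sup_le_mul_of_le_normalizer _ _ ?_).trans (Nat.mul_le_mul h1 h2)
    intro b hb
    exact mem_set_normalizer_iff.mpr fun a => by
      have hb' : b ∈ center (G × G') := hcen (mem_sup_right hb)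
      rw [← mem_center_iff.mp hb' a, mul_inv_cancel_right]
  set π := QuotientGroup.mk' Γ with hπ
  have hπsurj : Function.Surjective π := QuotientGroup.mk'_surjective Γ
  set z := π (d.x, d'.x) with hz
  set τ := π (d.t, d'.t) with hτ
  have hτ5 : τ ^ 5 = 1 := by
    rw [hτ, ← map_pow, show ((d.t, d'.t) : G × G') ^ 5 = 1 from Prod.ext d.h5 d'.h5, map_one]
  let zi : ℕ → (G × G') ⧸ Γ := fun i => τ ^ i * z * (τ ^ i)⁻¹
  have hzsq : z * z = 1 := by
    rw [hz, ← map_mul, show ((d.x, d'.x) : G × G') * (d.x, d'.x) = g1 * g2 from Prod.ext d.hsq d'.hsq,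
      map_mul]
    have h1 : π g1 = 1 := (QuotientGroup.eq_one_iff _).mpr (mem_sup_left (mem_zpowers _))
    have h2 : π g2 = 1 := (QuotientGroup.eq_one_iff _).mpr (mem_sup_right (mem_zpowers _))
    rw [h1, h2, one_mul]
  have hc1 : z * zi 1 = zi 1 * z := by
    rw [← commutatorElement_eq_one_iff_mul_comm]
    have : π g1 = 1 := (QuotientGroup.eq_one_iff _).mpr (mem_sup_left (mem_zpowers _))
    rw [← this]
    simp only [zi, hz, hτ, pow_one, ← map_inv, ← map_mul, ← map_commutatorElement]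
    rfl
  have hc2 : z * zi 2 = zi 2 * z := by
    rw [← commutatorElement_eq_one_iff_mul_comm]
    have : π g2 = 1 := (QuotientGroup.eq_one_iff _).mpr (mem_sup_right (mem_zpowers _))
    rw [← this]
    simp only [zi, hz, hτ, ← map_pow, ← map_inv, ← map_mul, ← map_commutatorElement]
    rfl
  have hprod : zi 0 * zi 1 * zi 2 * zi 3 * zi 4 = 1 := by
    simp only [zi, hz, hτ, pow_zero, pow_one, one_mul, inv_one, mul_one, ← map_pow, ← map_inv,
      ← map_mul]
    rw [← map_one π]
    exact congrArg π (Prod.ext d.hprod d'.hprod)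
  have hshift : ∀ i j : ℕ, τ ^ i * zi j * (τ ^ i)⁻¹ = zi (i + j) := fun i j => by
    simp only [zi, pow_add, mul_inv_rev, mul_assoc]
  have hper : ∀ i : ℕ, zi i = zi (i % 5) := fun i => by
    have : τ ^ i = τ ^ (i % 5) := by
      conv_lhs => rw [← Nat.div_add_mod i 5, pow_add, pow_mul, hτ5, one_pow, one_mul]
    simp only [zi, this]
  have hz0 : zi 0 = z := by simp [zi]
  have hcshift : ∀ i j k : ℕ, zi i * zi j = zi j * zi i → zi (k + i) * zi (k + j) = zi (k + j) * zi (k + i) := by
    intro i j k h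
    rw [← hshift, ← hshift]
    calc τ ^ k * zi i * (τ ^ k)⁻¹ * (τ ^ k * zi j * (τ ^ k)⁻¹) = τ ^ k * (zi i * zi j) * (τ ^ k)⁻¹ := by
          group
      _ = τ ^ k * zi j * (τ ^ k)⁻¹ * (τ ^ k * zi i * (τ ^ k)⁻¹) := by rw [h]; group
  have hcomm0 : ∀ j : ℕ, j < 5 → zi 0 * zi j = zi j * zi 0 := by
    intro j hj
    have h01 : zi 0 * zi 1 = zi 1 * zi 0 := by rwa [hz0]
    have h02 : zi 0 * zi 2 = zi 2 * zi 0 := by rwa [hz0]
    interval_cases j
    · rfl
    · exact h01
    · exact h02
    · have := hcshift 0 2 3 h02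
      rw [hper (3 + 2)] at this
      exact this.symm
    · have := hcshift 0 1 4 h01
      rw [hper (4 + 1)] at this
      exact this.symm
  have hcommAll : ∀ i j : ℕ, zi i * zi j = zi j * zi i := by
    have hle : ∀ i j : ℕ, i ≤ j → zi i * zi j = zi j * zi i := by
      intro i j hij
      have h0 : zi 0 * zi (j - i) = zi (j - i) * zi 0 := by
        rw [hper (j - i)]; exact hcomm0 _ (Nat.mod_lt _ (by norm_num))
      have := hcshift 0 (j - i) i h0
      rwa [add_zero, Nat.add_sub_cancel' hij] at this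
    intro i j
    rcases le_total i j with h | h
    · exact hle i j h
    · exact (hle j i h).symm
  set K := closure (Set.range zi) with hK
  haveI : IsMulCommutative K := isMulCommutative_closure (by
    rintro _ ⟨i, rfl⟩ _ ⟨j, rfl⟩; exact hcommAll i j)
  set K4 := zpowers (zi 0) ⊔ zpowers (zi 1) ⊔ zpowers (zi 2) ⊔ zpowers (zi 3) with hK4
  have hKle : K ≤ K4 := by
    rw [hK, closure_le]
    rintro _ ⟨i, rfl⟩
    rw [hper i]
    have : i % 5 < 5 := Nat.mod_lt _ (by norm_num)
    generalize i % 5 = r at this ⊢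
    interval_cases r
    · exact mem_sup_left (mem_sup_left (mem_sup_left (mem_zpowers _)))
    · exact mem_sup_left (mem_sup_left (mem_sup_right (mem_zpowers _)))
    · exact mem_sup_left (mem_sup_right (mem_zpowers _))
    · exact mem_sup_right (mem_zpowers _)
    · rw [eq_inv_of_mul_eq_one_right hprod]
      exact inv_mem (mul_mem (mul_mem (mul_mem
        (mem_sup_left (mem_sup_left (mem_sup_left (mem_zpowers _))))
        (mem_sup_left (mem_sup_left (mem_sup_right (mem_zpowers _)))))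
        (mem_sup_left (mem_sup_right (mem_zpowers _)))) (mem_sup_right (mem_zpowers _)))
  have hK4le : K4 ≤ K := by
    refine sup_le (sup_le (sup_le ?_ ?_) ?_) ?_ <;> exact zpowers_le.mpr (subset_closure ⟨_, rfl⟩)
  have hnorm : ∀ A B : Subgroup ((G × G') ⧸ Γ), A ≤ K → B ≤ K → B ≤ normalizer (A : Set ((G × G') ⧸ Γ)) := by
    intro A B hA hB b hb
    refine mem_set_normalizer_iff.mpr fun a => ⟨fun ha => ?_, fun ha => ?_⟩
    · have : b * a = a * b := congrArg Subtype.val (mul_comm' (⟨b, hB hb⟩ : K) ⟨a, hA ha⟩)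
      rwa [this, mul_inv_cancel_right]
    · have : b * (b * a * b⁻¹) = (b * a * b⁻¹) * b :=
        congrArg Subtype.val (mul_comm' (⟨b, hB hb⟩ : K) ⟨_, hA ha⟩)
      rw [inv_mul_cancel_right] at this
      rwa [mul_left_cancel this] at ha
  have hKcard : Nat.card K ≤ 16 := by
    have h2 : ∀ i : ℕ, Nat.card (zpowers (zi i)) ≤ 2 := fun i => by
      rw [Nat.card_zpowers]
      refine Nat.le_of_dvd two_pos (orderOf_dvd_of_pow_eq_one ?_)
      rw [pow_two]
      calc τ ^ i * z * (τ ^ i)⁻¹ * (τ ^ i * z * (τ ^ i)⁻¹) = τ ^ i * (z * z) * (τ ^ i)⁻¹ := by group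
        _ = 1 := by rw [hzsq]; group
    have e0 := le_sup_left.trans (le_sup_left.trans hK4le)
    have e1 := le_sup_left.trans hK4le
    have a1 := card_sup_le_mul_of_le_normalizer (zpowers (zi 0)) (zpowers (zi 1))
      (hnorm _ _ (le_sup_left.trans e0) (le_sup_right.trans e0))
    have a2 := card_sup_le_mul_of_le_normalizer (zpowers (zi 0) ⊔ zpowers (zi 1)) (zpowers (zi 2))
      (hnorm _ _ e0 (le_sup_right.trans e1))
    have a3 := card_sup_le_mul_of_le_normalizer (zpowers (zi 0) ⊔ zpowers (zi 1) ⊔ zpowers (zi 2))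
      (zpowers (zi 3)) (hnorm _ _ e1 (le_sup_right.trans hK4le))
    have b1 := a1.trans (Nat.mul_le_mul (h2 0) (h2 1))
    have b2 := a2.trans (Nat.mul_le_mul b1 (h2 2))
    have b3 := a3.trans (Nat.mul_le_mul b2 (h2 3))
    exact (card_le_of_le hKle).trans b3
  set Hb := K ⊔ zpowers τ with hHb
  have hHbcard : Nat.card Hb ≤ 16 * 5 := by
    have hτn : zpowers τ ≤ normalizer (K : Set ((G × G') ⧸ Γ)) := by
      rw [zpowers_le]
      have hfw : ∀ n : ℕ, ∀ k ∈ K, τ ^ n * k * (τ ^ n)⁻¹ ∈ K := by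
        intro n k hk
        have : K ≤ K.comap (MulAut.conj (τ ^ n)).toMonoidHom := by
          rw [hK, closure_le]
          rintro _ ⟨i, rfl⟩
          exact subset_closure ⟨n + i, (hshift n i).symm⟩
        exact this hk
      refine mem_set_normalizer_iff.mpr fun k => ⟨fun hk => by simpa using hfw 1 k hk, fun hk => ?_⟩
      have h4 := hfw 4 _ hk
      have : τ ^ 4 * (τ * k * τ⁻¹) * (τ ^ 4)⁻¹ = τ ^ 5 * k * (τ ^ 5)⁻¹ := by
        simp only [pow_succ, pow_zero, one_mul, mul_inv_rev, mul_assoc]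
      rw [this, hτ5] at h4
      simpa using h4
    refine (card_sup_le_mul_of_le_normalizer _ _ hτn).trans (Nat.mul_le_mul hKcard ?_)
    rw [Nat.card_zpowers]
    exact Nat.le_of_dvd (by norm_num) (orderOf_dvd_of_pow_eq_one hτ5)
  set H := Hb.comap π with hH
  have hHcard : Nat.card H ≤ 320 := by
    have h1 := H.card_mul_index
    have h2 := Hb.card_mul_index
    rw [hH, index_comap_of_surjective _ hπsurj, card_eq_card_quotient_mul_card_subgroup Γ, ← h2,
      mul_right_comm] at h1
    rw [hH, Nat.eq_of_mul_eq_mul_right (Nat.pos_of_ne_zero index_ne_zero_of_finite) h1]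
    exact (Nat.mul_le_mul hHbcard hΓcard).trans (by norm_num)
  have hxH : ((d.x, d'.x) : G × G') ∈ H := mem_sup_left (subset_closure ⟨0, hz0⟩)
  have htH : ((d.t, d'.t) : G × G') ∈ H := mem_sup_right (mem_zpowers τ)
  set p1 := (MonoidHom.fst G G').comp H.subtype with hp1
  set p2 := (MonoidHom.snd G G').comp H.subtype with hp2
  have hs1 : Function.Surjective p1 := by
    rw [← MonoidHom.range_eq_top, eq_top_iff, ← d.hgen, closure_le]
    rintro _ (rfl | rfl)
    · exact ⟨⟨_, hxH⟩, rfl⟩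
    · exact ⟨⟨_, htH⟩, rfl⟩
  have hs2 : Function.Surjective p2 := by
    rw [← MonoidHom.range_eq_top, eq_top_iff, ← d'.hgen, closure_le]
    rintro _ (rfl | rfl)
    · exact ⟨⟨_, hxH⟩, rfl⟩
    · exact ⟨⟨_, htH⟩, rfl⟩
  have hb1 : Function.Bijective p1 := (Nat.bijective_iff_surjective_and_card p1).mpr
    ⟨hs1, le_antisymm (by rw [hG]; exact hHcard) (Nat.card_le_card_of_surjective _ hs1)⟩
  have hb2 : Function.Bijective p2 := (Nat.bijective_iff_surjective_and_card p2).mpr
    ⟨hs2, le_antisymm (by rw [hG']; exact hHcard) (Nat.card_le_card_of_surjective _ hs2)⟩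
  exact ⟨(MulEquiv.ofBijective p1 hb1).symm.trans (MulEquiv.ofBijective p2 hb2)⟩

/-- Uniqueness. -/
theorem unique {G G' : Type*} [Group G] [Finite G] [Group G'] [Finite G']
    (hG : Nat.card G = 320) (hD : Nat.card (commutator G) = 64) (hZ : IsKleinFour (center (commutator G)))
    (hG' : Nat.card G' = 320) (hD' : Nat.card (commutator G') = 64)
    (hZ' : IsKleinFour (center (commutator G'))) : Nonempty (G ≃* G') := by
  obtain ⟨d⟩ := exists_data hG hD hZ
  obtain ⟨d'⟩ := exists_data hG' hD' hZ'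
  exact nonempty_mulEquiv hG hG' d d'

end Cfsg.Agent.ClassTech.U34Centralizer
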