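import Cfsg.Agent.ClassTech.SCNFour.Basic

/-!
Generators and relations for a group of order 320 whose derived subgroup has order 64 and a
four-group as centre.
-/

set_option autoImplicit false

namespace Cfsg.Agent.ClassTech.U34Centralizer

open Subgroup
open scoped commutatorElement

/-- A fixed-point-free operator of order five forces a two-group of order at most 64 to have order
one or sixteen. -/
theorem card_of_free {Q : Type*} [Group Q] [Finite Q] (φ : MulAut Q) (h5 : φ ^ 5 = 1)
    (hfree : ∀ q, φ q = q → q = 1) {k : ℕ} (hk : Nat.card Q = 2 ^ k) (hk6 : k ≤ 6) :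
    Nat.card Q = 1 ∨ Nat.card Q = 16 := by
  haveI : Fact (Nat.Prime 5) := ⟨by norm_num⟩
  have hp : IsPGroup 5 (zpowers φ) := by
    intro g
    refine ⟨1, ?_⟩
    obtain ⟨n, hn⟩ := mem_zpowers_iff.mp g.2
    refine Subtype.ext ?_
    rw [pow_one, SubgroupClass.coe_pow, OneMemClass.coe_one, ← hn]
    calc (φ ^ n) ^ 5 = (φ ^ 5) ^ n := by rw [← zpow_natCast, ← zpow_mul, mul_comm, zpow_mul, zpow_natCast]
      _ = 1 := by rw [h5, one_zpow]
  have hfix : MulAction.fixedPoints (zpowers φ) Q = {1} := by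
    ext q
    refine ⟨fun h => hfree q (h ⟨φ, mem_zpowers φ⟩), fun h g => ?_⟩
    rw [Set.mem_singleton_iff.mp h]
    exact map_one (g : MulAut Q)
  have h := hp.card_modEq_card_fixedPoints Q
  rw [hfix, Nat.card_coe_set_eq, Set.ncard_singleton, hk] at h
  rw [hk]
  interval_cases k <;> simp_all [Nat.ModEq]

/-- An operator of order five fixes a set of four elements pointwise. -/
theorem fix_of_card_four {P : Type*} [Group P] (φ : MulAut P) (h5 : φ ^ 5 = 1) (S : Subgroup P)
    (hS : Nat.card S = 4) (hinv : ∀ s ∈ S, φ s ∈ S) : ∀ s ∈ S, φ s = s := by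
  intro s hs
  haveI : Finite S := Nat.finite_of_card_ne_zero (by omega)
  have hpow : ∀ n : ℕ, (φ ^ n) s ∈ S := by
    intro n
    induction n with
    | zero => exact hs
    | succ n ih => rw [pow_succ', MulAut.mul_apply]; exact hinv _ ih
  obtain ⟨i, j, hne, hij⟩ : ∃ i j : Fin 5, i ≠ j ∧ (φ ^ (i : ℕ)) s = (φ ^ (j : ℕ)) s := by
    by_contra h
    push Not at h
    have := Nat.card_le_card_of_injective (fun i : Fin 5 => (⟨_, hpow i⟩ : S)) fun i j he => by
      by_contra hne
      exact h i j hne (congrArg Subtype.val he)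
    rw [Nat.card_fin] at this
    omega
  -- a smaller period
  have key : ∀ a b : ℕ, a < b → b < 5 → (φ ^ a) s = (φ ^ b) s → φ s = s := by
    intro a b hab hb h
    set d := b - a with hd
    have hd' : (φ ^ d) s = s := by
      apply (φ ^ a).injective
      rw [← MulAut.mul_apply, ← pow_add, show a + d = b by omega]
      exact h.symm
    have hit : ∀ n : ℕ, (φ ^ (d * n)) s = s := by
      intro n
      induction n with
      | zero => simp
      | succ n ih => rw [Nat.mul_succ, pow_add, MulAut.mul_apply, hd', ih]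
    obtain ⟨n, m, hnm⟩ : ∃ n m : ℕ, d * n = 5 * m + 1 := by
      rcases (show d = 1 ∨ d = 2 ∨ d = 3 ∨ d = 4 by omega) with h | h | h | h <;> rw [h]
      · exact ⟨1, 0, rfl⟩
      · exact ⟨3, 1, rfl⟩
      · exact ⟨2, 1, rfl⟩
      · exact ⟨4, 3, rfl⟩
    have := hit n
    rwa [hnm, pow_succ', pow_mul, h5, one_pow, mul_one] at this
  rcases lt_or_gt_of_ne (fun h => hne (Fin.ext h) : (i : ℕ) ≠ j) with h | h
  · exact key i j h j.2 hij
  · exact key j i h i.2 hij.symm

/-- Generators and relations. -/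
structure Data (G : Type*) [Group G] where
  t : G
  x : G
  h5 : t ^ 5 = 1
  hgen : closure {x, t} = ⊤
  hprod : x * (t * x * t⁻¹) * (t ^ 2 * x * (t ^ 2)⁻¹) * (t ^ 3 * x * (t ^ 3)⁻¹) *
    (t ^ 4 * x * (t ^ 4)⁻¹) = 1
  hc1z : ⁅x, t * x * t⁻¹⁆ ∈ center G
  hc2z : ⁅x, t ^ 2 * x * (t ^ 2)⁻¹⁆ ∈ center G
  hc1 : ⁅x, t * x * t⁻¹⁆ * ⁅x, t * x * t⁻¹⁆ = 1
  hc2 : ⁅x, t ^ 2 * x * (t ^ 2)⁻¹⁆ * ⁅x, t ^ 2 * x * (t ^ 2)⁻¹⁆ = 1
  hne1 : ⁅x, t * x * t⁻¹⁆ ≠ 1
  hne2 : ⁅x, t ^ 2 * x * (t ^ 2)⁻¹⁆ ≠ 1
  hne : ⁅x, t * x * t⁻¹⁆ ≠ ⁅x, t ^ 2 * x * (t ^ 2)⁻¹⁆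
  hsq : x * x = ⁅x, t * x * t⁻¹⁆ * ⁅x, t ^ 2 * x * (t ^ 2)⁻¹⁆

/-- The relations inside the two-group. -/
theorem relations {P : Type*} [Group P] [Finite P] (hP : IsPGroup 2 P) (hcard : Nat.card P = 64)
    (hZ : Nat.card (center P) = 4) (hZe : ∀ z ∈ center P, z * z = 1) (a : MulAut P) (h5 : a ^ 5 = 1)
    (hgen : closure (Set.range fun d : P => d⁻¹ * a d) ⊔ frattini P = ⊤) :
    (∀ z ∈ center P, a z = z) ∧
    ∃ x : P, closure (Set.range fun i : ℕ => (a ^ i) x) = ⊤ ∧
      x * a x * (a ^ 2) x * (a ^ 3) x * (a ^ 4) x = 1 ∧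
      ⁅x, a x⁆ ∈ center P ∧ ⁅x, (a ^ 2) x⁆ ∈ center P ∧
      ⁅x, a x⁆ ≠ 1 ∧ ⁅x, (a ^ 2) x⁆ ≠ 1 ∧ ⁅x, a x⁆ ≠ ⁅x, (a ^ 2) x⁆ ∧
      x * x = ⁅x, a x⁆ * ⁅x, (a ^ 2) x⁆ := by
  classical
  haveI : Fact (Nat.Prime 2) := ⟨Nat.prime_two⟩
  have haZ : ∀ z ∈ center P, a z = z := fix_of_card_four a h5 _ hZ fun z hz =>
    Subgroup.characteristic_iff_le_comap.mp centerCharacteristic a hz
  refine ⟨haZ, ?_⟩
  set N := frattini P with hN
  haveI : N.Characteristic := inferInstance
  haveI : N.Normal := inferInstance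
  have hNa : ∀ n ∈ N, a n ∈ N := fun n hn => Subgroup.characteristic_iff_le_comap.mp inferInstance a hn
  have hNa' : N.map (a : P ≃* P).toMonoidHom = N := Subgroup.characteristic_iff_map_eq.mp inferInstance a
  set π := QuotientGroup.mk' N with hπ
  let φ : MulAut (P ⧸ N) := QuotientGroup.congr N N a hNa'
  have hφ : ∀ d : P, φ (π d) = π (a d) := fun d => rfl
  have hcomm : ∀ u v : P ⧸ N, u * v = v * u := fun u v => by
    obtain ⟨u, rfl⟩ := QuotientGroup.mk'_surjective N u
    obtain ⟨v, rfl⟩ := QuotientGroup.mk'_surjective N v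
    exact commutatorElement_eq_one_iff_mul_comm.mp (by
      rw [← map_commutatorElement]
      exact (QuotientGroup.eq_one_iff _).mpr
        (PGroup.commutator_le_frattini hP (PGroup.commutatorElement_mem_commutator u v)))
  have hφ5 : φ ^ 5 = 1 := by
    refine MulEquiv.ext fun q => ?_
    obtain ⟨d, rfl⟩ := QuotientGroup.mk'_surjective N q
    have hn : ∀ n : ℕ, (φ ^ n) (π d) = π ((a ^ n) d) := by
      intro n
      induction n with
      | zero => rfl
      | succ n ih => rw [pow_succ', MulAut.mul_apply, ih, hφ, pow_succ', MulAut.mul_apply]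
    rw [hn, h5]; rfl
  -- no fixed points
  let δ : P ⧸ N →* P ⧸ N := MonoidHom.mk' (fun u => u⁻¹ * φ u) fun u v => by
    rw [mul_inv_rev, map_mul, hcomm v⁻¹ u⁻¹]
    calc u⁻¹ * v⁻¹ * (φ u * φ v) = u⁻¹ * (v⁻¹ * φ u) * φ v := by simp only [mul_assoc]
      _ = u⁻¹ * φ u * (v⁻¹ * φ v) := by rw [hcomm v⁻¹ (φ u)]; simp only [mul_assoc]
  have hδ : Function.Surjective δ := by
    rw [← MonoidHom.range_eq_top, eq_top_iff]
    intro u _
    obtain ⟨d, rfl⟩ := QuotientGroup.mk'_surjective N u
    have h : (⊤ : Subgroup P) ≤ δ.range.comap π := by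
      rw [← hgen]
      refine sup_le ((closure_le _).mpr ?_) fun n hn => ?_
      · rintro _ ⟨e, rfl⟩
        exact ⟨π e, by simp [δ, hφ]⟩
      · exact ⟨1, by rw [map_one]; exact ((QuotientGroup.eq_one_iff n).mpr hn).symm⟩
    exact h (mem_top d)
  have hfree : ∀ u : P ⧸ N, φ u = u → u = 1 := fun u hu =>
    (Finite.injective_iff_surjective.mpr hδ) (show δ u = δ 1 by simp [δ, hu])
  -- orders
  have hPsplit : Nat.card P = Nat.card (P ⧸ N) * Nat.card N := card_eq_card_quotient_mul_card_subgroup N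
  have hQ : Nat.card (P ⧸ N) = 16 := by
    obtain ⟨k, hk⟩ := IsPGroup.iff_card.mp (hP.to_quotient N)
    have hle : k ≤ 6 := by
      have : 2 ^ k ∣ 2 ^ 6 := by rw [← hk, show (2 : ℕ) ^ 6 = 64 from rfl, ← hcard]; exact ⟨_, hPsplit⟩
      exact (Nat.pow_dvd_pow_iff_le_right (by norm_num)).mp this
    refine (card_of_free φ hφ5 hfree hk hle).resolve_left fun h1 => ?_
    rw [h1, one_mul] at hPsplit
    have htop : (⊥ : Subgroup P) = ⊤ := frattini_nongenerating (by
      rw [bot_sup_eq]; exact eq_top_of_card_eq _ hPsplit.symm)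
    have := congrArg (fun H : Subgroup P => Nat.card H) htop
    simp only [card_bot, card_top] at this
    omega
  have hNcard : Nat.card N = 4 := by rw [hcard, hQ] at hPsplit; omega
  have haN : ∀ n ∈ N, a n = n := fix_of_card_four a h5 N hNcard hNa
  have hNc : N ≤ center P := by
    intro n hn
    have hC : (⊤ : Subgroup P) ≤ centralizer ({n} : Set P) ⊔ frattini P := by
      rw [← hgen]
      refine sup_le_sup_right ((closure_le _).mpr ?_) _
      rintro _ ⟨d, rfl⟩
      show d⁻¹ * a d ∈ centralizer ({n} : Set P)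
      rw [mem_centralizer_singleton_iff]
      have h1 : d * n * d⁻¹ ∈ N := (inferInstance : N.Normal).conj_mem n hn d
      have h2 := haN _ h1
      rw [map_mul, map_mul, map_inv, haN n hn] at h2
      calc d⁻¹ * a d * n = d⁻¹ * (a d * n * (a d)⁻¹) * a d := by group
        _ = d⁻¹ * (d * n * d⁻¹) * a d := by rw [h2]
        _ = n * (d⁻¹ * a d) := by group
    have hC' : centralizer ({n} : Set P) = ⊤ := frattini_nongenerating (top_le_iff.mp hC)
    exact mem_center_iff.mpr fun g => mem_centralizer_singleton_iff.mp (hC'.ge (mem_top g))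
  have hNZ : N = center P := eq_of_le_of_card_ge hNc (by rw [hZ, hNcard])
  have hsqN : ∀ d : P, d * d ∈ N := fun d => by
    have := PGroup.pow_mem_frattini hP d
    rwa [pow_two] at this
  have hcl := SCNFour.commutator_le_center hNc hsqN
  have hcm : ∀ u v : P, ⁅u, v⁆ ∈ N := SCNFour.comm_mem hNc hsqN
  -- a point outside the centre with trivial orbit product
  obtain ⟨y, hy⟩ : ∃ y : P, y ∉ N := by
    by_contra h
    push Not at h
    have := card_le_of_le (show (⊤ : Subgroup P) ≤ N from fun x _ => h x)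
    rw [card_top, hcard, hNcard] at this
    omega
  set p := y * a y * (a ^ 2) y * (a ^ 3) y * (a ^ 4) y with hp
  have hiter : ∀ (n : ℕ) (d : P), a ((a ^ n) d) = (a ^ (n + 1)) d := fun n d => by
    rw [pow_succ', MulAut.mul_apply]
  have hpN : p ∈ N := by
    refine (QuotientGroup.eq_one_iff p).mp (hfree (π p) ?_)
    rw [hφ, hp]
    simp only [map_mul, hiter, show (a ^ (4 + 1)) y = y by rw [h5]; rfl]
    rw [hcomm _ (π y), show (a ^ (1 + 1)) y = a (a y) by rw [pow_two]; rfl]
    simp only [show (a ^ 2) y = a (a y) by rw [pow_two]; rfl, mul_assoc]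
    try rfl
  set x := y * p with hx
  have hxN : x ∉ N := fun h => hy (by
    rw [show y = x * p⁻¹ by rw [hx]; group]; exact mul_mem h (inv_mem hpN))
  have hap : ∀ n : ℕ, (a ^ n) p = p := by
    intro n
    induction n with
    | zero => rfl
    | succ n ih => rw [pow_succ', MulAut.mul_apply, ih, haN p hpN]
  have hxi : ∀ n : ℕ, (a ^ n) x = (a ^ n) y * p := fun n => by rw [hx, map_mul, hap]
  have hpc : ∀ d : P, p * d = d * p := fun d => (mem_center_iff.mp (hNc hpN) d).symm
  have hpp : p * p = 1 := hZe p (hNc hpN)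
  have hprod : x * a x * (a ^ 2) x * (a ^ 3) x * (a ^ 4) x = 1 := by
    have ha1 : a x = a y * p := by rw [hx, map_mul, haN p hpN]
    rw [ha1, hxi 2, hxi 3, hxi 4, hx]
    have hmm : ∀ u v : P, u * p * v * p = u * v := fun u v => by
      calc u * p * v * p = u * (p * v) * p := by simp only [mul_assoc]
        _ = u * v * (p * p) := by rw [hpc v]; simp only [mul_assoc]
        _ = u * v := by rw [hpp, mul_one]
    simp only [← mul_assoc]
    rw [hmm, hmm]
    have hY : y * (a y * ((a ^ 2) y * ((a ^ 3) y * (a ^ 4) y))) = p := by simp only [hp, mul_assoc]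
    calc y * p * a y * (a ^ 2) y * (a ^ 3) y * (a ^ 4) y
        = y * (p * (a y * ((a ^ 2) y * ((a ^ 3) y * (a ^ 4) y)))) := by simp only [mul_assoc]
      _ = y * (a y * ((a ^ 2) y * ((a ^ 3) y * (a ^ 4) y))) * p := by rw [hpc]; simp only [mul_assoc]
      _ = 1 := by rw [hY, hpp]
  -- generation
  set S := closure (Set.range fun i : ℕ => (a ^ i) x) with hS
  have hgenS : S = ⊤ := by
    refine frattini_nongenerating ?_
    have hSa : ∀ u ∈ S.map π, φ u ∈ S.map π := by
      rintro _ ⟨d, hd, rfl⟩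
      refine ⟨a d, ?_, (hφ d).symm⟩
      have : S ≤ S.comap (a : P ≃* P).toMonoidHom := by
        rw [hS, closure_le]
        rintro _ ⟨i, rfl⟩
        exact subset_closure ⟨i + 1, (hiter i x).symm⟩
      exact this hd
    have hSmap : (S.map π).map (φ : (P ⧸ N) ≃* (P ⧸ N)).toMonoidHom = S.map π := by
      refine eq_of_le_of_card_ge ?_ (card_map_of_injective φ.injective).ge
      rintro _ ⟨u, hu, rfl⟩
      exact hSa u hu
    let ψ : MulAut (S.map π) :=
      (φ.subgroupMap (S.map π)).trans (MulEquiv.subgroupCongr hSmap)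
    have hψ : ∀ u : S.map π, ((ψ u : S.map π) : P ⧸ N) = φ u := fun u => rfl
    have hψ5 : ψ ^ 5 = 1 := by
      refine MulEquiv.ext fun u => Subtype.ext ?_
      have hn : ∀ n : ℕ, (((ψ ^ n) u : S.map π) : P ⧸ N) = (φ ^ n) u := by
        intro n
        induction n with
        | zero => rfl
        | succ n ih => rw [pow_succ', MulAut.mul_apply, hψ, ih, pow_succ', MulAut.mul_apply]
      rw [hn, hφ5]; rfl
    obtain ⟨k, hk⟩ := PGroup.exists_card_eq_pow (hP.to_quotient N) (S.map π)
    have hle : Nat.card (S.map π) ≤ 16 := hQ ▸ card_le_card_group _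
    have hk6 : k ≤ 6 := by
      by_contra h
      have : 2 ^ 7 ≤ 2 ^ k := Nat.pow_le_pow_right (by norm_num) (by omega)
      omega
    have h16 : Nat.card (S.map π) = 16 := by
      refine (card_of_free ψ hψ5 (fun u hu => Subtype.ext (hfree u (by
        rw [← hψ]; exact congrArg Subtype.val hu))) hk hk6).resolve_left fun h1 => hxN ?_
      refine (QuotientGroup.eq_one_iff x).mp ?_
      have hmem : π x ∈ S.map π := ⟨x, subset_closure ⟨0, rfl⟩, rfl⟩
      rwa [card_eq_one.mp h1, mem_bot] at hmem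
    have htop : S.map π = ⊤ := eq_top_of_card_eq _ (h16.trans hQ.symm)
    have := congrArg (comap π) htop
    rw [comap_map_eq, comap_top, QuotientGroup.ker_mk'] at this
    exact this
  -- the relations
  set c1 := ⁅x, a x⁆ with hc1
  set c2 := ⁅x, (a ^ 2) x⁆ with hc2
  have hshift : ∀ u v : P, ∀ n : ℕ, ⁅(a ^ n) u, (a ^ n) v⁆ = ⁅u, v⁆ := fun u v n => by
    induction n with
    | zero => rfl
    | succ n ih => rw [← hiter, ← hiter, ← map_commutatorElement, haN _ (hcm _ _), ih]
  have hsymm : ∀ u v : P, ⁅u, v⁆ = ⁅v, u⁆ := fun u v => by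
    rw [← commutatorElement_inv u v]
    exact (inv_eq_of_mul_eq_one_left (hZe _ (hNc (hcm u v)))).symm
  have hpow : ∀ i j : ℕ, (a ^ (i + j)) x = (a ^ i) ((a ^ j) x) := fun i j => by
    rw [pow_add, MulAut.mul_apply]
  have h5x : ∀ i : ℕ, (a ^ (i + 5)) x = (a ^ i) x := fun i => by rw [pow_add, h5, mul_one]
  have e03 : ⁅x, (a ^ 3) x⁆ = c2 := by
    rw [← hshift x ((a ^ 3) x) 2, ← hpow, show 2 + 3 = 0 + 5 by rfl, h5x, hsymm]; rfl
  have e13 : ⁅a x, (a ^ 3) x⁆ = c2 := by
    have := hshift x ((a ^ 2) x) 1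
    rwa [← hpow, pow_one] at this
  have e12 : ⁅a x, (a ^ 2) x⁆ = c1 := by
    have := hshift x (a x) 1
    rwa [pow_one, show a (a x) = (a ^ 2) x by rw [pow_two]; rfl] at this
  have e23 : ⁅(a ^ 2) x, (a ^ 3) x⁆ = c1 := by
    have := hshift x (a x) 2
    rwa [show (a ^ 2) (a x) = (a ^ 3) x by rw [show (3 : ℕ) = 2 + 1 from rfl, hpow, pow_one]] at this
  have hc1N : c1 ∈ N := hcm _ _
  have hc2N : c2 ∈ N := hcm _ _
  have hc11 : c1 * c1 = 1 := hZe _ (hNc hc1N)
  have hc22 : c2 * c2 = 1 := hZe _ (hNc hc2N)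
  set w := x * x with hw
  have hwN : w ∈ N := hsqN x
  have hwi : ∀ i : ℕ, (a ^ i) x * (a ^ i) x = w := fun i => by
    induction i with
    | zero => rfl
    | succ i ih => rw [← hiter, ← map_mul, ih, haN _ hwN]
  have hwval : w = c1 * c2 := by
    set u := x * a x with hu
    set v := (a ^ 2) x * (a ^ 3) x with hv
    have huv : (u * v) * (u * v) = w := by
      have h4 : (a ^ 4) x = (u * v)⁻¹ := eq_inv_of_mul_eq_one_right (by
        rw [← hprod]; simp only [hu, hv, mul_assoc])
      have := hwi 4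
      rw [h4, ← mul_inv_rev] at this
      rw [← this]
      exact (inv_eq_of_mul_eq_one_left (hZe _ (hNc (hsqN (u * v))))).symm
    have hu2 : u * u = c1 := by
      rw [hu, SCNFour.mul_sq hNc hsqN, ← hw, show a x * a x = w by simpa using hwi 1, hsymm, ← hc1,
        hZe w (hNc hwN), one_mul]
    have hv2 : v * v = c1 := by
      rw [hv, SCNFour.mul_sq hNc hsqN, hwi, hwi, hsymm, e23, hZe w (hNc hwN), one_mul]
    have hvu : ⁅v, u⁆ = c1 * c2 := by
      rw [hsymm, hu, hv, PGroup.comm_mul_left hcl, PGroup.comm_mul_right hcl, PGroup.comm_mul_right hcl,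
        e03, e12, e13, ← hc2]
      rw [hc22, one_mul]
    rw [← huv, SCNFour.mul_sq hNc hsqN, hu2, hv2, hvu, hc11, one_mul]
  have hne : c1 ≠ 1 ∧ c2 ≠ 1 ∧ c1 ≠ c2 := by
    let V := closure ({c1, c2} : Set P)
    have hV : V ≤ N := (closure_le _).mpr (by rintro _ (rfl | rfl) <;> assumption)
    haveI : V.Normal := ⟨fun v hv g => by
      rwa [mem_center_iff.mp (hNc (hV hv)) g, mul_inv_cancel_right]⟩
    have hNV : N ≤ V := by
      rw [hN, PGroup.frattini_eq_closure_sq hP, closure_le]
      rintro _ ⟨g, rfl⟩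
      set K := Set.range fun i : ℕ => ((a ^ i) x : P ⧸ V) with hK
      have hK2 : ∀ k ∈ K, k * k = 1 := by
        rintro _ ⟨i, rfl⟩
        rw [← QuotientGroup.mk_mul, QuotientGroup.eq_one_iff, hwi, hwval]
        exact mul_mem (subset_closure (by simp)) (subset_closure (by simp))
      have hKc : ∀ k ∈ K, ∀ l ∈ K, k * l = l * k := by
        rintro _ ⟨i, rfl⟩ _ ⟨j, rfl⟩
        rw [← commutatorElement_eq_one_iff_mul_comm]
        show ⁅QuotientGroup.mk' V ((a ^ i) x), QuotientGroup.mk' V ((a ^ j) x)⁆ = 1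
        have hsh : ∀ i j : ℕ, i ≤ j → ⁅(a ^ i) x, (a ^ j) x⁆ ∈ V := by
          intro i j hij
          have h1 : (a ^ j) x = (a ^ i) ((a ^ (j - i)) x) := by rw [← hpow, Nat.add_sub_cancel' hij]
          rw [h1, hshift]
          have h2 : ∀ n : ℕ, (a ^ n) x = (a ^ (n % 5)) x := fun n => by
            conv_lhs => rw [← Nat.div_add_mod n 5, pow_add, pow_mul, h5, one_pow, one_mul]
          rw [h2 (j - i)]
          have h3 : (j - i) % 5 < 5 := Nat.mod_lt _ (by norm_num)
          generalize (j - i) % 5 = r at h3 ⊢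
          interval_cases r
          · simp
          · rw [pow_one]; exact subset_closure (by simp [hc1])
          · exact subset_closure (by simp [hc2])
          · rw [e03]; exact subset_closure (by simp)
          · have e04 : ⁅x, (a ^ 4) x⁆ = c1 := by
              rw [← hshift x ((a ^ 4) x) 1, ← hpow, show 1 + 4 = 0 + 5 by rfl, h5x, hsymm, pow_one]; rfl
            rw [e04]; exact subset_closure (by simp)
        rcases le_total i j with h | h
        · rw [← map_commutatorElement (QuotientGroup.mk' V)]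
          exact (QuotientGroup.eq_one_iff _).mpr (hsh i j h)
        · rw [← inv_eq_one, commutatorElement_inv, ← map_commutatorElement (QuotientGroup.mk' V)]
          exact (QuotientGroup.eq_one_iff _).mpr (hsh j i h)
      haveI := isMulCommutative_closure hKc
      have hall : ∀ q ∈ closure K, q * q = 1 := by
        intro q hq
        induction hq using closure_induction with
        | mem k hk => exact hK2 k hk
        | one => exact one_mul 1
        | mul k l hk hl ihk ihl =>
          have hkl : k * l = l * k := congrArg Subtype.val (mul_comm' (⟨k, hk⟩ : closure K) ⟨l, hl⟩)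
          calc k * l * (k * l) = k * (l * k) * l := by simp only [mul_assoc]
            _ = (k * k) * (l * l) := by rw [← hkl]; simp only [mul_assoc]
            _ = 1 := by rw [ihk, ihl, one_mul]
        | inv k _ ihk => rw [← mul_inv_rev, ihk, inv_one]
      have hKtop : closure K = ⊤ := by
        have := congrArg (map (QuotientGroup.mk' V)) hgenS
        rw [hS, MonoidHom.map_closure, map_top_of_surjective _ (QuotientGroup.mk'_surjective V),
          ← Set.range_comp] at this
        exact this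
      show g ^ 2 ∈ V
      rw [pow_two, ← QuotientGroup.eq_one_iff, QuotientGroup.mk_mul]
      exact hall _ (hKtop.ge (mem_top _))
    have hbig : ∀ c : P, c * c = 1 → ¬ V ≤ zpowers c := fun c hc h => by
      have h1 := card_le_of_le (hNV.trans h)
      rw [hNcard, Nat.card_zpowers] at h1
      have h2 : orderOf c ≤ 2 := Nat.le_of_dvd two_pos (orderOf_dvd_of_pow_eq_one (by rw [pow_two, hc]))
      omega
    refine ⟨fun h => hbig c2 hc22 ((closure_le _).mpr ?_), fun h => hbig c1 hc11 ((closure_le _).mpr ?_),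
      fun h => hbig c1 hc11 ((closure_le _).mpr ?_)⟩
    · rintro _ (rfl | rfl)
      · rw [h]; exact one_mem _
      · exact mem_zpowers _
    · rintro _ (rfl | rfl)
      · exact mem_zpowers _
      · rw [h]; exact one_mem _
    · rintro _ (rfl | rfl)
      · exact mem_zpowers _
      · rw [← h]; exact mem_zpowers _
  exact ⟨x, hgenS, hprod, hNc hc1N, hNc hc2N, hne.1, hne.2.1, hne.2.2, hwval⟩

/-- Generators and relations exist. -/
theorem exists_data {G : Type*} [Group G] [Finite G] (hG : Nat.card G = 320)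
    (hD : Nat.card (commutator G) = 64) (hZ : IsKleinFour (center (commutator G))) :
    Nonempty (Data G) := by
  classical
  haveI : Fact (Nat.Prime 2) := ⟨Nat.prime_two⟩
  haveI : Fact (Nat.Prime 5) := ⟨by norm_num⟩
  obtain ⟨t, ht⟩ := exists_prime_orderOf_dvd_card' (G := G) 5 (by rw [hG]; norm_num)
  have ht5 : t ^ 5 = 1 := by rw [← ht]; exact pow_orderOf_eq_one t
  have hP : IsPGroup 2 (commutator G) := IsPGroup.of_card (n := 6) (by rw [hD]; norm_num)
  -- generation by the derived subgroup and the element of order five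
  have htop : commutator G ⊔ zpowers t = ⊤ := by
    refine eq_top_of_le_card _ ?_
    rw [hG]
    have h1 : 64 ∣ Nat.card (commutator G ⊔ zpowers t : Subgroup G) :=
      hD ▸ card_dvd_of_le le_sup_left
    have h2 : 5 ∣ Nat.card (commutator G ⊔ zpowers t : Subgroup G) := by
      rw [← ht, ← Nat.card_zpowers t]; exact card_dvd_of_le le_sup_right
    exact Nat.le_of_dvd Nat.card_pos (Nat.Coprime.mul_dvd_of_dvd_of_dvd (by norm_num) h1 h2)
  let a : MulAut (commutator G) := MulAut.conjNormal t
  have ha : ∀ d : commutator G, ((a d : commutator G) : G) = t * d * t⁻¹ := fun d =>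
    MulAut.conjNormal_apply t d
  have han : ∀ (n : ℕ) (d : commutator G), (((a ^ n) d : commutator G) : G) = t ^ n * d * (t ^ n)⁻¹ :=
    fun n d => by
      rw [show a ^ n = MulAut.conjNormal (t ^ n) from (map_pow MulAut.conjNormal t n).symm]
      exact MulAut.conjNormal_apply _ d
  have ha5 : a ^ 5 = 1 := by rw [← map_pow, ht5, map_one]
  set R := closure (Set.range fun d : commutator G => d⁻¹ * a d) ⊔ frattini (commutator G) with hR
  have hgen : R = ⊤ := by
    set R' := R.map (commutator G).subtype with hR'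
    have hδmem : ∀ d : commutator G, d⁻¹ * a d ∈ R := fun d => mem_sup_left (subset_closure ⟨d, rfl⟩)
    have hRD : ∀ g ∈ commutator G, ∀ r ∈ R', g * r * g⁻¹ ∈ R' := by
      rintro g hg _ ⟨r, hr, rfl⟩
      refine ⟨⟨g, hg⟩ * r * ⟨g, hg⟩⁻¹, ?_, rfl⟩
      exact (PGroup.normal_of_comm_mem (A := R) (B := R) le_rfl fun u v _ =>
        mem_sup_right (PGroup.commutator_le_frattini hP
          (PGroup.commutatorElement_mem_commutator u v))).conj_mem r hr _
    have hRt : ∀ r ∈ R', t * r * t⁻¹ ∈ R' := by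
      rintro _ ⟨r, hr, rfl⟩
      refine ⟨a r, ?_, ha r⟩
      have : R ≤ R.comap (a : commutator G ≃* commutator G).toMonoidHom := by
        rw [hR]
        refine sup_le ((closure_le _).mpr ?_) fun n hn => ?_
        · rintro _ ⟨d, rfl⟩
          refine mem_sup_left (subset_closure ⟨a d, ?_⟩)
          simp [map_mul]
        · exact mem_sup_right (Subgroup.characteristic_iff_le_comap.mp inferInstance a hn)
      exact this hr
    haveI hR'n : R'.Normal := by
      rw [← normalizer_eq_top_iff, eq_top_iff, ← htop]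
      refine sup_le (fun g hg => mem_set_normalizer_iff.mpr fun r =>
        ⟨hRD g hg r, fun h => ?_⟩) (zpowers_le.mpr (mem_set_normalizer_iff.mpr fun r => ⟨hRt r, fun h => ?_⟩))
      · simpa [mul_assoc] using hRD g⁻¹ (inv_mem hg) _ h
      · have h4 := hRt _ (hRt _ (hRt _ (hRt _ h)))
        have : t * (t * (t * (t * (t * r * t⁻¹) * t⁻¹) * t⁻¹) * t⁻¹) * t⁻¹ = t ^ 5 * r * (t ^ 5)⁻¹ := by
          simp only [pow_succ, pow_zero, one_mul, mul_inv_rev, mul_assoc]
        rw [this, ht5] at h4
        simpa using h4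
    have hle : commutator G ≤ R' := by
      set π := QuotientGroup.mk' R'
      have hK : ∀ k ∈ (π '' ((commutator G : Set G) ∪ {t})), ∀ l ∈ (π '' ((commutator G : Set G) ∪ {t})),
          k * l = l * k := by
        have h1 : ∀ d e : commutator G, π d * π e = π e * π d := fun d e => by
          rw [← commutatorElement_eq_one_iff_mul_comm, ← map_commutatorElement]
          exact (QuotientGroup.eq_one_iff _).mpr ⟨⁅d, e⁆, mem_sup_right (PGroup.commutator_le_frattini hP
            (PGroup.commutatorElement_mem_commutator d e)), rfl⟩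
        have h2 : ∀ d : commutator G, π t * π d = π d * π t := fun d => by
          have h : π ((d : G)⁻¹ * (t * d * t⁻¹)) = 1 :=
            (QuotientGroup.eq_one_iff _).mpr ⟨d⁻¹ * a d, hδmem d, by simp [ha]⟩
          rw [map_mul, map_inv, map_mul, map_mul, map_inv, inv_mul_eq_one] at h
          calc π t * π d = π t * π d * (π t)⁻¹ * π t := by group
            _ = π d * π t := by rw [← h]
        rintro _ ⟨u, hu, rfl⟩ _ ⟨v, hv, rfl⟩
        rcases hu with hu | rfl <;> rcases hv with hv | rfl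
        · exact h1 ⟨u, hu⟩ ⟨v, hv⟩
        · exact (h2 ⟨u, hu⟩).symm
        · exact h2 ⟨v, hv⟩
        · rfl
      haveI := isMulCommutative_closure hK
      have hall : ∀ g : G, π g ∈ closure (π '' ((commutator G : Set G) ∪ {t})) := fun g => by
        rw [← MonoidHom.map_closure]
        refine ⟨g, ?_, rfl⟩
        have : commutator G ⊔ zpowers t ≤ closure ((commutator G : Set G) ∪ {t}) :=
          sup_le (fun d hd => subset_closure (Or.inl hd)) (zpowers_le.mpr (subset_closure (Or.inr rfl)))
        exact this (htop.ge (mem_top g))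
      rw [_root_.commutator_def, commutator_le]
      intro u _ v _
      rw [← QuotientGroup.eq_one_iff]
      show π ⁅u, v⁆ = 1
      rw [map_commutatorElement, commutatorElement_eq_one_iff_mul_comm]
      exact congrArg Subtype.val (mul_comm' (⟨π u, hall u⟩ : closure (π '' ((commutator G : Set G) ∪ {t})))
        ⟨π v, hall v⟩)
    rw [eq_top_iff]
    intro d _
    obtain ⟨r, hr, hrd⟩ := hle d.2
    rwa [← Subtype.ext hrd]
  have hZ4 : Nat.card (center (commutator G)) = 4 := hZ.card_four
  have hZe : ∀ z ∈ center (commutator G), z * z = 1 := fun z hz => by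
    have := Monoid.pow_exponent_eq_one (⟨z, hz⟩ : center (commutator G))
    rw [hZ.exponent_two, pow_two] at this
    exact congrArg Subtype.val this
  obtain ⟨haZ, x, hxgen, hxp, hz1, hz2, hn1, hn2, hn, hsq⟩ := relations hP hD hZ4 hZe a ha5 hgen
  have hgen2 : closure {(x : G), t} = ⊤ := by
    rw [eq_top_iff, ← htop]
    refine sup_le (fun d hd => ?_) (zpowers_le.mpr (subset_closure (by simp)))
    have h : (⊤ : Subgroup (commutator G)) ≤
        (closure {(x : G), t}).comap (commutator G).subtype := by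
      rw [← hxgen, closure_le]
      rintro _ ⟨i, rfl⟩
      show (((a ^ i) x : commutator G) : G) ∈ closure {(x : G), t}
      rw [han]
      exact mul_mem (mul_mem (pow_mem (subset_closure (by simp)) i) (subset_closure (by simp)))
        (inv_mem (pow_mem (subset_closure (by simp)) i))
    exact h (mem_top (⟨d, hd⟩ : commutator G))
  have hcen : ∀ z ∈ center (commutator G), ((z : commutator G) : G) ∈ center G := by
    intro z hz
    have h : (⊤ : Subgroup G) ≤ centralizer {((z : commutator G) : G)} := by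
      rw [← htop]
      refine sup_le (fun d hd => mem_centralizer_singleton_iff.mpr ?_)
        (zpowers_le.mpr (mem_centralizer_singleton_iff.mpr ?_))
      · exact congrArg Subtype.val (mem_center_iff.mp hz ⟨d, hd⟩)
      · have := congrArg Subtype.val (haZ z hz)
        rw [ha] at this
        calc t * z = t * z * t⁻¹ * t := by group
          _ = z * t := by rw [this]
    exact mem_center_iff.mpr fun g => mem_centralizer_singleton_iff.mp (h (mem_top g))
  have ea : ((a x : commutator G) : G) = t * x * t⁻¹ := ha x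
  refine ⟨{
    t := t, x := x, h5 := ht5, hgen := hgen2
    hprod := ?_
    hc1z := ?_, hc2z := ?_, hc1 := ?_, hc2 := ?_, hne1 := ?_, hne2 := ?_, hne := ?_, hsq := ?_ }⟩
  · have := congrArg Subtype.val hxp
    simpa only [Subgroup.coe_mul, ea, han, OneMemClass.coe_one] using this
  · have := hcen _ hz1; rwa [← ea]
  · have := hcen _ hz2; rwa [← han]
  · rw [← ea]; exact congrArg Subtype.val (hZe _ hz1)
  · rw [← han]; exact congrArg Subtype.val (hZe _ hz2)
  · rw [← ea]; exact fun h => hn1 (Subtype.ext h)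
  · rw [← han]; exact fun h => hn2 (Subtype.ext h)
  · rw [← ea, ← han]; exact fun h => hn (Subtype.ext h)
  · rw [← ea, ← han]; exact congrArg Subtype.val hsq

end Cfsg.Agent.ClassTech.U34Centralizer
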