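import Cfsg.Agent.Lib.SuzukiTwo.Unitary
import Cfsg.Agent.TwoFusionB.PSU34

/-!
The centraliser of an involution in `PSU_3(4)`.
-/

set_option autoImplicit false

namespace Cfsg.Agent.ClassTech.U34Centralizer

open Matrix Cfsg.Agent.Unitary Cfsg.Agent.AutPSU
open scoped commutatorElement

universe u

variable {F : Type u} [Field F] [Fintype F]

/-- A special element fixing the first vector of a pair acts trivially modulo it on the third line. -/
theorem prj_fix_of_fix (hF : Fintype.card F = 4 ^ 2) {S : Finset (Fin 3)} {e f : Fin 3 → F}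
    (h : HPair 4 e f) (hS : Frame 4 S e f) (hS2 : S.card = 2) {g : SU 3 F 4} (hge : g • e = e)
    {w : Fin 3 → F} (hw : Orth2 4 e f w) : prj 4 e f (g • w) = w := by
  classical
  obtain ⟨k, hk⟩ : ∃ k, Sᶜ = {k} := Finset.card_eq_one.1 (by rw [Finset.card_compl, hS2]; simp)
  have hkS : k ∉ S := by
    have : k ∈ Sᶜ := by rw [hk]; simp
    simpa using this
  have hrep : ∀ w, Orth2 4 e f w → w = w k • eI k := by
    intro w hw
    funext i
    by_cases hi : i = k
    · subst hi; simp [eI]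
    · have hiS : i ∈ S := by
        by_contra hh
        have : i ∈ Sᶜ := Finset.mem_compl.2 hh
        rw [hk, Finset.mem_singleton] at this
        exact hi this
      rw [(hS w).1 hw i hiS]
      simp [eI, hi]
  set v : Fin 3 → F := eI k with hv
  have hvo : Orth2 4 e f v := (hS _).2 (eI_mem_supp hkS)
  set μ := prj 4 e f (g • v) k with hμ
  have hv' : g • v = herm 4 (g • v) f • e + μ • v := by
    conv_lhs => rw [eq_prj (q := 4) e f (g • v),
      show herm 4 (g • v) e = 0 by rw [← hge, herm_smul_SU]; exact hvo.1, zero_smul, add_zero,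
      hrep _ (orth2_prj hF h _)]
  set φv := prj 4 e f (g • f) k with hφv
  have hf' : g • f = herm 4 (g • f) f • e + f + φv • v := by
    conv_lhs => rw [eq_prj (q := 4) e f (g • f),
      show herm 4 (g • f) e = 1 by rw [← hge, herm_smul_SU]; exact h.fe hF, one_smul,
      hrep _ (orth2_prj hF h _)]
  -- the matrix in the basis
  let B : Matrix (Fin 3) (Fin 3) F := Matrix.of fun i j => ![e, v, f] j i
  let T : Matrix (Fin 3) (Fin 3) F :=
    !![1, herm 4 (g • v) f, herm 4 (g • f) f; 0, μ, φv; 0, 0, 1]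
  set M : Matrix (Fin 3) (Fin 3) F :=
    ((g : Matrix.SpecialLinearGroup (Fin 3) F) : Matrix (Fin 3) (Fin 3) F) with hM
  have hcol : ∀ (x : Fin 3 → F) (i : Fin 3), (g • x) i = ∑ j, M i j * x j := fun x i => rfl
  have hmul : M * B = B * T := by
    ext i j
    simp only [Matrix.mul_apply]
    fin_cases j
    · calc ∑ l, M i l * B l 0 = (g • e) i := (hcol e i).symm
        _ = ∑ l, B i l * T l 0 := by rw [hge]; simp [B, T, Fin.sum_univ_three]
    · calc ∑ l, M i l * B l 1 = (g • v) i := (hcol v i).symm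
        _ = ∑ l, B i l * T l 1 := by rw [hv']; simp [B, T, Fin.sum_univ_three]; ring
    · calc ∑ l, M i l * B l 2 = (g • f) i := (hcol f i).symm
        _ = ∑ l, B i l * T l 2 := by rw [hf']; simp [B, T, Fin.sum_univ_three]; ring
  have hB : B.det ≠ 0 := by
    intro h0
    obtain ⟨c, hc, hBc⟩ := Matrix.exists_mulVec_eq_zero_iff.mpr h0
    have hlin : c 0 • e + c 1 • v + c 2 • f = 0 := by
      rw [← hBc]; funext i
      simp [B, Matrix.mulVec, dotProduct, Fin.sum_univ_three]; ring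
    have h0' := congrArg (fun x => herm 4 x f) hlin
    have h2' := congrArg (fun x => herm 4 x e) hlin
    simp only [herm_add_left, herm_smul_left, h.ee, h.ff, h.ef, h.fe hF, hvo.1, hvo.2, herm_zero_left,
      mul_zero, mul_one, add_zero, zero_add] at h0' h2'
    rw [h0', h2', zero_smul, zero_smul, zero_add, add_zero] at hlin
    have h1' := congrFun hlin k
    simp [hv, eI] at h1'
    apply hc
    funext i
    fin_cases i
    · exact h0'
    · exact h1'
    · exact h2'
  have hdet := congrArg Matrix.det hmul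
  rw [Matrix.det_mul, Matrix.det_mul, hM, Matrix.SpecialLinearGroup.det_coe, one_mul,
    show T.det = μ by simp [T, Matrix.det_fin_three]] at hdet
  have hμ1 : μ = 1 := mul_left_cancel₀ hB (hdet.symm.trans (mul_one _).symm)
  conv_lhs => rw [hrep w hw]
  conv_rhs => rw [hrep w hw]
  rw [smul_comm g (w k) v, prj_smul, hrep _ (orth2_prj hF h _), ← hμ, hμ1, one_smul]

set_option maxHeartbeats 2000000 in
/-- The shape of the centraliser of an involution of `PSU_3(4)`. -/
theorem exists_involution (hF : Fintype.card F = 16) :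
    ∃ t : Cfsg.PSU 3 F 4, orderOf t = 2 ∧
      Nat.card (Subgroup.centralizer ({t} : Set (Cfsg.PSU 3 F 4))) = 320 ∧
      Nat.card (commutator (Subgroup.centralizer ({t} : Set (Cfsg.PSU 3 F 4)))) = 64 ∧
      IsKleinFour (Subgroup.center (commutator (Subgroup.centralizer ({t} : Set (Cfsg.PSU 3 F 4))))) := by
  classical
  have hF4 : Fintype.card F = 4 ^ 2 := by rw [hF]; norm_num
  haveI : Fact (Nat.Prime 2) := ⟨Nat.prime_two⟩
  haveI : CharP F 2 := charP_of_card_eq_prime_pow (f := 4) (by rw [hF]; rfl)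
  have hn : (2 : ℕ) ≤ 3 := by norm_num
  obtain ⟨S, e, f, h, hS, hS2⟩ := exists_frame hF4 (le_refl 3)
  have hUcard : Nat.card (Ugrp hF4 h) = 64 := by
    rw [SuzukiTwo.card_Ugrp hF4 h hS hS2]; norm_num
  obtain ⟨P, hP⟩ := (isPGroup_Ugrp hF4 2 h).exists_le_sylow
  have hPcard : Nat.card P = 64 := by
    rw [P.card_eq_multiplicity, TwoFusionB.card_PSU34 hF4,
      Nat.factorization_mul (by norm_num) (by norm_num),
      Finsupp.add_apply, Nat.Prime.factorization_pow Nat.prime_two, Finsupp.single_eq_same,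
      Nat.factorization_eq_zero_of_not_dvd (by norm_num), add_zero]
    norm_num
  have hUP : Ugrp hF4 h = (P : Subgroup (Cfsg.PSU 3 F 4)) :=
    Subgroup.eq_of_le_of_card_ge hP (hPcard ▸ hUcard.ge)
  obtain ⟨hs64, hs4, hssq, hsinv, hsze, hscomm⟩ := TwoFusionB.isU34Shape_sylow hF4 P
  have hcen := center_sylow hF4 2 hn h P hP
  -- the involution
  obtain ⟨c, hc0, hc⟩ := exists_trace_zero_ne_zero hF4
  set t := piU 3 F 4 (tv hF4 h.ee hc) with ht
  obtain ⟨z, hz, hzt⟩ : ∃ z ∈ Subgroup.center (P : Subgroup (Cfsg.PSU 3 F 4)),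
      (z : Cfsg.PSU 3 F 4) = t := by
    have : t ∈ Tgrp hF4 h.ee := tv_mem_Tgrp hF4 h.ee hc
    rw [← hcen] at this
    exact this
  have ht2 : t * t = 1 := by
    rw [← hzt, ← pow_two]; exact congrArg Subtype.val (hsze z hz)
  have hone : tv hF4 h.ee (show (0 : F) + 0 ^ 4 = 0 by simp) = 1 :=
    eq_of_smul_eq_SU fun x => by rw [tv_smul, one_smul]; simp
  have ht1 : t ≠ 1 := by
    intro h1
    rw [ht, ← map_one (piU 3 F 4), ← hone] at h1
    exact hc0 (Qel_inj hF4 h (orth2_zero e f) (orth2_zero e f) (piU_Qel_eq hF4 hn h.e_ne h1)).2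
  refine ⟨t, orderOf_eq_prime (by rw [pow_two, ht2]) ht1, ?_⟩
  set C := Subgroup.centralizer ({t} : Set (Cfsg.PSU 3 F 4)) with hC
  have hUC : (P : Subgroup (Cfsg.PSU 3 F 4)) ≤ C := fun u hu =>
    Subgroup.mem_centralizer_singleton_iff.mpr (by
      rw [← hzt]
      exact congrArg Subtype.val (Subgroup.mem_center_iff.mp hz ⟨u, hu⟩))
  -- the eigenvalue
  have hχ : ∀ x ∈ C, ∃ (g : SU 3 F 4) (a : F), piU 3 F 4 g = x ∧ a * a ^ 4 = 1 ∧ g • e = a • e := by
    intro x hx
    obtain ⟨g, rfl⟩ := piU_surjective (n := 3) (q := 4) x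
    obtain ⟨a, ha, hga⟩ := fix_of_comm hF4 hn h hc0 hc (Subgroup.mem_centralizer_singleton_iff.mp hx)
    exact ⟨g, a, rfl, ha, hga⟩
  choose gx ax hgx hax hgax using hχ
  set M := (P : Subgroup (Cfsg.PSU 3 F 4)).subgroupOf C with hMdef
  have hMn : M.Normal := by
    constructor
    intro u hu g
    show (g : Cfsg.PSU 3 F 4) * u * (g : Cfsg.PSU 3 F 4)⁻¹ ∈ (P : Subgroup (Cfsg.PSU 3 F 4))
    rw [← hUP]
    refine conj_mem_Ugrp hF4 hn h ?_ (hUP.ge hu)
    rw [← hgx g g.2]
    exact (mem_stab hF4 hn).2 ⟨ax g g.2, fun h0 => by simpa [h0] using hax g g.2, hgax g g.2⟩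
  have hMcard : Nat.card M = 64 := by
    rw [hMdef, Nat.card_congr (Subgroup.subgroupOfEquivOfLe hUC).toEquiv, hPcard]
  have hroots : Nat.card {a : F // a ^ (4 + 1) = 1} = 4 + 1 := card_norm_eq_one hF4
  have hindex : Nat.card (C ⧸ M) ≤ 5 := by
    refine le_trans (Nat.card_le_card_of_injective
      (fun q : C ⧸ M => (⟨ax q.out q.out.2, by rw [pow_succ']; exact hax _ _⟩ :
        {a : F // a ^ (4 + 1) = 1})) ?_) hroots.le
    intro q r hqr
    have heq : ax q.out q.out.2 = ax r.out r.out.2 := congrArg Subtype.val hqr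
    rw [← QuotientGroup.out_eq' q, ← QuotientGroup.out_eq' r, QuotientGroup.eq]
    show ((q.out : C) : Cfsg.PSU 3 F 4)⁻¹ * ((r.out : C) : Cfsg.PSU 3 F 4) ∈ (P : Subgroup (Cfsg.PSU 3 F 4))
    rw [← hgx _ q.out.2, ← hgx _ r.out.2, ← map_inv, ← map_mul, ← hUP]
    have he : ((gx q.out q.out.2)⁻¹ * gx r.out r.out.2) • e = e := by
      rw [mul_smul, hgax, ← heq, ← hgax, inv_smul_smul]
    refine mem_Ugrp_of_trivial hF4 hn h (a := 1) (by simp) (by rw [he, one_smul]) fun w hw => ?_
    rw [one_smul]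
    exact prj_fix_of_fix hF4 h hS hS2 he hw
  -- the torus
  obtain ⟨k, hk⟩ : ∃ k, Sᶜ = {k} := Finset.card_eq_one.1 (by rw [Finset.card_compl, hS2]; simp)
  have hkS : k ∉ S := by
    have : k ∈ Sᶜ := by rw [hk]; simp
    simpa using this
  obtain ⟨l, hl, hl0, hl2⟩ := exists_norm_one hF4
  have hl5 : l ^ 5 = 1 := by rw [pow_succ']; exact hl
  obtain ⟨s, ⟨-, hse, hsf⟩, hsw⟩ := exists_levi_diag hF4 h hS hkS hl0
  set σ := piU 3 F 4 s with hσ
  have hσC : σ ∈ C := by
    refine Subgroup.mem_centralizer_singleton_iff.mpr ?_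
    have h1 : s * tv hF4 h.ee hc * s⁻¹ = tv hF4 h.ee hc := by
      rw [conj_tv]
      refine eq_of_smul_eq_SU fun x => ?_
      rw [tv_smul, tv_smul, hse, herm_smul_right hF4, smul_smul]
      congr 2
      linear_combination (c * herm 4 x e) * hl
    calc σ * t = piU 3 F 4 (s * tv hF4 h.ee hc * s⁻¹) * σ := by
          rw [map_mul, map_mul, map_inv, inv_mul_cancel_right]
      _ = t * σ := by rw [h1]
  -- it acts without fixed points modulo the centre
  have hfree : ∀ x : (P : Subgroup (Cfsg.PSU 3 F 4)),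
      (∃ y ∈ Subgroup.center (P : Subgroup (Cfsg.PSU 3 F 4)), σ * x * σ⁻¹ = x * y) →
      x ∈ Subgroup.center (P : Subgroup (Cfsg.PSU 3 F 4)) := by
    rintro x ⟨y, hy, hxy⟩
    obtain ⟨w, hw, b, hb, hx⟩ := hUP.ge x.2
    have hyT : (y : Cfsg.PSU 3 F 4) ∈ Tgrp hF4 h.ee := hcen ▸ ⟨y, hy, rfl⟩
    obtain ⟨d, hd, hyd⟩ := (mem_Tgrp hF4).1 hyT
    rw [hx, hyd, ← map_mul, hσ, ← map_inv, ← map_mul, ← map_mul, conj_Qel hF4, tv,
      Qel_mul_Qel hF4 h.ee hw.1 hb _ _ (Qel_add_cond hF4 hb (tv_cond hd))] at hxy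
    have h2 := congrArg (fun k : SU 3 F 4 => prj 4 e f (k • f)) (piU_Qel_eq hF4 hn h.e_ne hxy)
    have hew : herm 4 (w + 0) e = 0 := by rw [add_zero]; exact hw.1
    simp only [prj_Qel_f hF4 h hew] at h2
    rw [Qel_smul, add_zero, prj_of_orth2 hw] at h2
    simp only [hse, herm_smul_right hF4, h.fe hF4, mul_one] at h2
    have hsw' : s • w = (l ^ 4 / l) • w := by
      rw [hsw w hw]
      funext i
      by_cases hi : i = k
      · subst hi; simp
      · have hiS : i ∈ S := by
          by_contra hh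
          have : i ∈ Sᶜ := Finset.mem_compl.2 hh
          rw [hk, Finset.mem_singleton] at this
          exact hi this
        simp [(hS w).1 hw i hiS]
    rw [hsw'] at h2
    have hh : herm 4 f ((l ^ 4 / l) • w) = 0 := by
      rw [herm_smul_right hF4, (hw.left hF4).2, mul_zero]
    rw [hh, zero_smul, sub_zero, prj_add hF4, prj_add hF4, prj_smul, prj_smul, prj_smul, prj_smul,
      prj_of_orth2 hw] at h2
    have he0 : prj 4 e f e = 0 := by simp [prj, h.ee, h.ef]
    have hf0 : prj 4 e f f = 0 := by simp [prj, h.ff, h.fe hF4]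
    rw [he0, hf0, smul_zero, smul_zero, add_zero, zero_add, smul_smul] at h2
    by_cases hw0 : w = 0
    · refine (Subgroup.mem_map_iff_mem
        (Subgroup.subtype_injective (P : Subgroup (Cfsg.PSU 3 F 4)))).mp ?_
      rw [hcen]
      show (x : Cfsg.PSU 3 F 4) ∈ Tgrp hF4 h.ee
      subst hw0
      have hb' : b + b ^ 4 = 0 := by rw [hb, herm_zero_left, neg_zero]
      rw [hx]
      exact (mem_Tgrp hF4).2 ⟨b, hb', congrArg _ (Qel_congr hF4 h.ee _ _ _ _ rfl rfl)⟩
    · exfalso
      have h3 : (l ^ 4 * (l ^ 4 / l) - 1) • w = 0 := by rw [sub_smul, one_smul, h2, sub_self]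
      rcases smul_eq_zero.mp h3 with h4 | h4
      · rw [sub_eq_zero] at h4
        have h5 : l ^ 8 = l := by
          field_simp at h4
          linear_combination l * h4
        have h6 : l ^ 2 = 1 := by
          have h7 : l ^ 3 = l := by linear_combination h5 - l ^ 3 * hl5
          exact mul_left_cancel₀ hl0 (by linear_combination h7)
        exact hl2 h6
      · exact hw0 h4
  -- the derived subgroup
  have hMle : M ≤ commutator C := by
    rintro u hu
    set Z := Subgroup.center (P : Subgroup (Cfsg.PSU 3 F 4)) with hZdef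
    let conjσ : ↥(P : Subgroup (Cfsg.PSU 3 F 4)) → ↥(P : Subgroup (Cfsg.PSU 3 F 4)) := fun x =>
      ⟨σ * x * σ⁻¹, hMn.conj_mem ⟨x, hUC x.2⟩ x.2 ⟨σ, hσC⟩⟩
    have hsqc : ∀ a b : (P : Subgroup (Cfsg.PSU 3 F 4)), ⁅a, b⁆ ∈ Z := by
      intro a b
      have h1 : ⁅a, b⁆ = (a * b) ^ 2 * (b⁻¹) ^ 2 * (b * a⁻¹ * b⁻¹) ^ 2 := by
        rw [commutatorElement_def]; simp only [pow_two]; group
      rw [h1]
      exact mul_mem (mul_mem (hssq _) (hssq _)) (hssq _)
    have hcs : ∀ a b, conjσ (a * b) = conjσ a * conjσ b := fun a b =>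
      Subtype.ext (by show σ * (a * b) * σ⁻¹ = σ * a * σ⁻¹ * (σ * b * σ⁻¹); group)
    have hqc : ∀ a b : (P : Subgroup (Cfsg.PSU 3 F 4)) ⧸ Z, a * b = b * a := fun a b => by
      obtain ⟨a, rfl⟩ := QuotientGroup.mk'_surjective Z a
      obtain ⟨b, rfl⟩ := QuotientGroup.mk'_surjective Z b
      exact commutatorElement_eq_one_iff_mul_comm.mp (by
        rw [← map_commutatorElement]; exact (QuotientGroup.eq_one_iff _).mpr (hsqc a b))
    let δ : (P : Subgroup (Cfsg.PSU 3 F 4)) →* (P : Subgroup (Cfsg.PSU 3 F 4)) ⧸ Z :=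
      MonoidHom.mk' (fun x => QuotientGroup.mk' Z (x⁻¹ * conjσ x)) fun a b => by
        simp only [_root_.mul_inv_rev, hcs, map_mul, map_inv]
        rw [hqc (QuotientGroup.mk' Z b)⁻¹ (QuotientGroup.mk' Z a)⁻¹]
        simp only [mul_assoc]
        congr 1
        rw [← mul_assoc, hqc _ (QuotientGroup.mk' Z (conjσ a)), mul_assoc]
    have hker : δ.ker ≤ Z := by
      intro x hx
      refine hfree x ⟨x⁻¹ * conjσ x, (QuotientGroup.eq_one_iff _).mp hx, ?_⟩
      simp [conjσ, mul_assoc]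
    have hsurj : Function.Surjective δ := by
      rw [← MonoidHom.range_eq_top]
      refine Subgroup.eq_top_of_le_card _ ?_
      have h1 := δ.ker.card_mul_index
      rw [Subgroup.index_ker] at h1
      have h2 := Subgroup.card_eq_card_quotient_mul_card_subgroup Z
      have h3 := Subgroup.card_le_of_le hker
      rw [← h1] at h2
      by_contra hlt
      push Not at hlt
      have := Nat.mul_lt_mul_of_pos_right hlt (Nat.card_pos (α := Z))
      rw [← h2] at this
      exact absurd this (not_lt.mpr (by rw [mul_comm _ (Nat.card Z)]; exact Nat.mul_le_mul h3 le_rfl))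
    have hZle : ∀ y ∈ Z, (⟨(y : Cfsg.PSU 3 F 4), hUC y.2⟩ : C) ∈ commutator C := by
      intro y hy
      obtain ⟨x, hx⟩ : ∃ x, x ∉ Z := by
        by_contra! hall
        have := Subgroup.card_le_of_le (show (⊤ : Subgroup (P : Subgroup (Cfsg.PSU 3 F 4))) ≤ Z from
          fun x _ => hall x)
        rw [Subgroup.card_top, hs64, hs4] at this
        omega
      obtain ⟨y', hy'⟩ := hscomm x hx y hy
      have he : (⟨(y : Cfsg.PSU 3 F 4), hUC y.2⟩ : C) = ⁅(⟨x, hUC x.2⟩ : C), ⟨y', hUC y'.2⟩⁆ :=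
        Subtype.ext (congrArg Subtype.val hy').symm
      rw [he, _root_.commutator_def]
      exact Subgroup.commutator_mem_commutator (Subgroup.mem_top _) (Subgroup.mem_top _)
    let u' : (P : Subgroup (Cfsg.PSU 3 F 4)) := ⟨(u : Cfsg.PSU 3 F 4), hu⟩
    obtain ⟨x, hx⟩ := hsurj (QuotientGroup.mk' Z u')
    have hmem : (x⁻¹ * conjσ x)⁻¹ * u' ∈ Z := QuotientGroup.eq.mp hx
    have hu' : u = ⁅(⟨x, hUC x.2⟩ : C)⁻¹, ⟨σ, hσC⟩⁆ *
        ⟨(((x⁻¹ * conjσ x)⁻¹ * u' : (P : Subgroup (Cfsg.PSU 3 F 4))) : Cfsg.PSU 3 F 4),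
          hUC ((x⁻¹ * conjσ x)⁻¹ * u').2⟩ := by
      refine Subtype.ext ?_
      simp [conjσ, u', commutatorElement_def, mul_assoc]
    rw [hu']
    refine mul_mem ?_ (hZle _ hmem)
    rw [_root_.commutator_def]
    exact Subgroup.commutator_mem_commutator (Subgroup.mem_top _) (Subgroup.mem_top _)
  have hσM : (⟨σ, hσC⟩ : C) ∉ M := by
    intro hσm
    obtain ⟨x, hx⟩ : ∃ x, x ∉ Subgroup.center (P : Subgroup (Cfsg.PSU 3 F 4)) := by
      by_contra! hall
      have := Subgroup.card_le_of_le (show (⊤ : Subgroup (P : Subgroup (Cfsg.PSU 3 F 4))) ≤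
        Subgroup.center (P : Subgroup (Cfsg.PSU 3 F 4)) from fun x _ => hall x)
      rw [Subgroup.card_top, hs64, hs4] at this
      omega
    refine hx (hfree x ⟨x⁻¹ * (⟨σ, hσm⟩ * x * ⟨σ, hσm⟩⁻¹), ?_, by simp [mul_assoc]⟩)
    set s' : (P : Subgroup (Cfsg.PSU 3 F 4)) := ⟨σ, hσm⟩
    have h1 : x⁻¹ * (s' * x * s'⁻¹) = (x⁻¹ * s') ^ 2 * (s'⁻¹) ^ 2 * (s' * x * s'⁻¹) ^ 2 := by
      simp only [pow_two]; group
    rw [h1]
    exact mul_mem (mul_mem (hssq _) (hssq _)) (hssq _)
  -- the orders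
  have hMtop : M ≠ ⊤ := fun e => hσM (e ▸ Subgroup.mem_top _)
  have hCidx := M.card_mul_index
  rw [hMcard, Subgroup.index_eq_card] at hCidx
  have hlow : ¬ Nat.card C ≤ 256 := by
    intro hle
    -- a nontrivial quotient of order at most four would contradict the order of `σ`
    have hq4 : Nat.card (C ⧸ M) ≤ 4 := by omega
    haveI := hMn
    have hs5 : (QuotientGroup.mk' M ⟨σ, hσC⟩) ^ 5 = 1 := by
      rw [← map_pow]
      refine (QuotientGroup.eq_one_iff _).mpr ?_
      show σ ^ 5 ∈ (P : Subgroup (Cfsg.PSU 3 F 4))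
      have he : (s ^ 5) • e = e := by rw [pow_smul_eigen hse, hl5, one_smul]
      rw [hσ, ← map_pow, ← hUP]
      refine mem_Ugrp_of_trivial hF4 hn h (a := 1) (by simp) (by rw [he, one_smul]) fun w hw => ?_
      rw [one_smul]
      exact prj_fix_of_fix hF4 h hS hS2 he hw
    have hd := orderOf_dvd_natCard (QuotientGroup.mk' M ⟨σ, hσC⟩)
    have h5 : orderOf (QuotientGroup.mk' M ⟨σ, hσC⟩) = 5 :=
      haveI : Fact (Nat.Prime 5) := ⟨by norm_num⟩
      orderOf_eq_prime hs5 fun h1 => hσM ((QuotientGroup.eq_one_iff _).mp h1)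
    rw [h5] at hd
    have := Nat.le_of_dvd Nat.card_pos hd
    omega
  have hq5 : Nat.card (C ⧸ M) = 5 := by omega
  have hCcard : Nat.card C = 320 := by omega
  have hMeq : commutator C = M := by
    refine le_antisymm ?_ hMle
    haveI := hMn
    haveI : IsCyclic (C ⧸ M) :=
      haveI : Fact (Nat.Prime 5) := ⟨by norm_num⟩
      isCyclic_of_prime_card hq5
    rw [_root_.commutator_def, Subgroup.commutator_le]
    intro u _ v _
    rw [← QuotientGroup.eq_one_iff]
    show QuotientGroup.mk' M ⁅u, v⁆ = 1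
    rw [map_commutatorElement, commutatorElement_eq_one_iff_mul_comm]
    exact IsCyclic.commGroup.mul_comm _ _
  refine ⟨hCcard, by rw [hMeq, hMcard], ?_⟩
  rw [hMeq]
  have eM : M ≃* (P : Subgroup (Cfsg.PSU 3 F 4)) := Subgroup.subgroupOfEquivOfLe hUC
  have hk4 : Nat.card (Subgroup.center M) = 4 := by
    rw [Nat.card_congr (Subgroup.centerCongr eM).toEquiv, hs4]
  refine ⟨hk4, ?_⟩
  refine le_antisymm ?_ ?_
  · refine Nat.le_of_dvd two_pos (Monoid.exponent_dvd_of_forall_pow_eq_one fun y => ?_)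
    refine (Subgroup.centerCongr eM).injective ?_
    rw [map_pow, map_one]
    exact Subtype.ext (hsze _ (Subgroup.centerCongr eM y).2)
  · by_contra hlt
    have h1 : Monoid.exponent (Subgroup.center M) ≠ 0 := Monoid.exponent_ne_zero_of_finite
    have h2 : Monoid.exponent (Subgroup.center M) = 1 := by omega
    rw [Monoid.exp_eq_one_iff] at h2
    have := Finite.one_lt_card_iff_nontrivial.1 (show 1 < Nat.card (Subgroup.center M) by omega)
    exact (not_subsingleton (Subgroup.center M)) h2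

end Cfsg.Agent.ClassTech.U34Centralizer
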